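import Groth.Agent.Krr.H496.ExcBundle
import Groth.Agent.Krr.H484.PBCharts

/-!
# Geometric fibres of the blow-up of a regular closed immersion

Over a geometric point `h` of the centre, the blow-up has fibre `P^(c-1)`, `c` the codimension, and there is a
line bundle on the blow-up restricting to `O(1)`.
-/

set_option autoImplicit false
universe u
open CategoryTheory CategoryTheory.Limits AlgebraicGeometry Opposite BlowUp

namespace K550.Fibre

open Groth.Agent Groth.Agent.Dix.IdealModCartier Groth.Agent.Krr.H496.ExcBundle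
  Groth.Agent.Sga67.LocBasis Groth.Agent.Sga67.Sec Groth.Agent.Krr.H487.LocBasisPull

/-- The conormal module is free of rank the length of a defining regular sequence, at a geometric point. -/
theorem nonempty_conormal_free {X Y : Scheme.{u}} (f : Y ⟶ X) [IsClosedImmersion f] {Ω : Type u} [Field Ω]
    (h : Spec (CommRingCat.of Ω) ⟶ Y) (c : Sga67.KosImm.Chart f) (hc : h default ∈ c.V) :
    Nonempty ((Scheme.Modules.pullback h).obj (Omega.conormal f) ≅
      FlatMod.freeMod (Spec (CommRingCat.of Ω)) c.l.length) := by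
  have h1 := isLocBasis_pbS h (Groth.Agent.Sga67.KosConormal.isLocBasis_fN c)
  have h2 : (⊤ : (Spec (CommRingCat.of Ω)).Opens) ≤ h ⁻¹ᵁ c.V := by
    intro x _
    have : x = default := Subsingleton.elim _ _
    rw [this]
    exact hc
  exact nonempty_iso_free (h1.restrict h2)

/-- **The geometric fibre of the blow-up.** -/
theorem exists_fibre {X Y X' : Scheme.{u}} (f : Y ⟶ X) (hf : Mor2.IsRegularClosedImmersion f)
    {b : X' ⟶ X} (hb : IsBlowUp b f.ker) {Ω : Type u} [Field Ω] (h : Spec (CommRingCat.of Ω) ⟶ Y)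
    [IsClosedImmersion f] (c : Sga67.KosImm.Chart f) (hc : h default ∈ c.V) {r : ℕ} (hr : c.l.length = r + 1) :
    ∃ (L : X'.Modules) (_ : PicF.IsInvertible L) (i : CohB1.ProjSpace r Ω ⟶ X'),
      IsPullback i (CohB1.ProjSpace.toSpec r Ω) b (h ≫ f) ∧
      Nonempty ((Scheme.Modules.pullback i).obj L ≅ Twist.twistProjSpace r Ω 1) := by
  have hsq : IsPullback (pullback.fst b f) (pullback.snd b f) b f := IsPullback.of_hasPullback b f
  have B := isProjBundle_exc hf hb hsq
  obtain ⟨τ⟩ := nonempty_conormal_free f h c hc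
  rw [hr] at τ
  obtain ⟨j, hj, ⟨e⟩⟩ := Krr.H484.PBCharts.exists_chart B (A := Ω) h τ
  refine ⟨ClSub.idealMod (pullback.fst b f).ker, isInvertible_idealMod (isEff_exc hb hsq),
    j ≫ pullback.fst b f, hj.paste_horiz hsq, ⟨?_⟩⟩
  exact ((Scheme.Modules.pullbackComp j (pullback.fst b f)).symm.app _) ≪≫ e

end K550.Fibre
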