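import Groth.Agent.Dix.K550.Dies
import Groth.Agent.Dix.K281.BrGlue
import Groth.Agent.Dix.K281.DivInj
import Groth.Agent.Dix.K280.GmPullComp

/-!
# Gluing: a class on `X'` dying étale locally on `X` comes from `X`
-/

set_option autoImplicit false
universe u
open CategoryTheory CategoryTheory.Limits AlgebraicGeometry Opposite Abelian
open scoped Groth.Agent.Etcore.EtInst
open Groth.Agent.Etcore.EtInst Groth.Agent.Etcore.PullCoh Groth.Agent.Etcore.HpullCalc
  Groth.Agent.Etcore.HC Groth.Agent.Etcore.Kappa228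

namespace K550.Glue

open Groth.Agent K550.KumPull K550.Dies Groth.Agent.CohtopA.GmDivGen Groth.Agent.CohtopA.GmDivD

attribute [local instance] Groth.Agent.S0101.result

theorem hom_eq_zero {Z : Scheme.{u}} {T : Set Z} (hT : T = ∅) {F : EtCoh.Ab Z} (φ : F ⟶ dSheaf Z ℤ T) :
    φ = 0 := by
  ext U s
  apply Subtype.ext
  funext v
  by_contra h
  have h1 := (φ.hom.app U s : dSub Z ℤ T U.unop).2 v h
  rw [hT] at h1
  exact h1

/-- If the complement of `W` has codimension `≥ 2`, `G_m → j_* G_m` is an isomorphism. -/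
theorem isIso_gmPush {Z W : Scheme.{u}} (j : W ⟶ Z) [IsOpenImmersion j] [ELF Z] [K281.DivEval.HasGen j]
    (h : K281.DivEval.TW j = ∅) : IsIso (EtLim.GmPush j) := by
  have hS := K281.DivSurj.shortExact_divSeq j
  have h0 : (K281.DivSurj.divSeq j).g = 0 := hom_eq_zero h _
  have h1 : Epi (K281.DivSurj.divSeq j).f := hS.exact.epi_f h0
  have h2 : Mono (K281.DivSurj.divSeq j).f := hS.mono_f
  have h3 : IsIso (K281.DivSurj.divSeq j).f := isIso_of_mono_of_epi _
  exact h3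

/-- `HG` as push, then edge map. -/
theorem HofPush_gmPush {Z W : Scheme.{u}} (j : W ⟶ Z) (n : ℕ) (x : HH Z (EtCoh.Gm Z) n) :
    @Eq (HH W (EtCoh.Gm W) n) (EtLim.HofPush j (EtCoh.Gm W) n (HHmap (EtLim.GmPush j) n x))
      (HG j n x) :=
  HGmPull_eq_HG j n x

theorem HG_two_injective {Z W : Scheme.{u}} (j : W ⟶ Z) [IsOpenImmersion j] [ELF Z]
    [K281.DivEval.HasGen j] : Function.Injective (HG j 2) := fun x y hxy =>
  K281.DivInj.HGmPull_two_injective j ((HGmPull_eq_HG j 2 x).trans (hxy.trans (HGmPull_eq_HG j 2 y).symm))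

variable {X X' W : Scheme.{u}} {b : X' ⟶ X} {j : W ⟶ X} {j' : W ⟶ X'} (hj : j' ≫ b = j)
  [IsOpenImmersion j] [ELF X] [K281.DivEval.HasGen j]

include hj in
/-- Injectivity of the pullback. -/
theorem HG_injective : Function.Injective (HG b 2) := by
  rw [injective_iff_map_eq_zero]
  intro x hx
  apply HG_two_injective j
  rw [map_zero, ← HG_HG j' b j hj, hx, map_zero]

/-- **Gluing.** -/
theorem exists_lift_open (hT : K281.DivEval.TW j = ∅) (e : HH W (EtCoh.Gm W) 2)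
    (hloc : ∀ x : X, ∃ V : X.Etale, x ∈ Set.range V.hom ∧
      hp ((EtCoh.bc j).obj V).hom (EtCoh.Gm W) 2 e = 0) :
    ∃ ξ : HH X (EtCoh.Gm X) 2, HG j 2 ξ = e := by
  have hS := Groth.Agent.Sga5.LowLeray.seq_shortExact (EtCoh.Gm W)
  have h1 : Epi ((EtCoh.push j).map (Groth.Agent.Sga5.LowLeray.seq (EtCoh.Gm W)).g) :=
    Groth.Agent.Sga5.GmR1.epi_push j (fun V x => inferInstance) hS (Iso.refl _)
  have hJ : Injective (Groth.Agent.Sga5.LowLeray.seq (EtCoh.Gm W)).X₂ :=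
    inferInstanceAs (Injective (Injective.under (EtCoh.Gm W)))
  obtain ⟨ξ₁, hξ₁⟩ := K281.BrGlue.exists_HofPush_eq j hS h1 e (fun x => by
    obtain ⟨V, hx, hV⟩ := hloc x
    exact ⟨V, hx, inferInstance, hV⟩)
  have h3 := isIso_gmPush j hT
  obtain ⟨ξ, hξ⟩ := (HHmap_bijective (EtLim.GmPush j) 2).2 ξ₁
  refine ⟨ξ, ?_⟩
  rw [← HofPush_gmPush, hξ]
  exact hξ₁

include hj in
theorem exists_lift (hT : K281.DivEval.TW j = ∅) [IsOpenImmersion j'] [ELF X'] [K281.DivEval.HasGen j']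
    (η : HH X' (EtCoh.Gm X') 2) (hloc : ∀ x : X, Dies b η x) :
    ∃ ξ : HH X (EtCoh.Gm X) 2, HG b 2 ξ = η := by
  obtain ⟨ξ, hξ⟩ := exists_lift_open hT (HG j' 2 η) (fun x => (hloc x).hp_bc hj η x)
  refine ⟨ξ, HG_two_injective j' ?_⟩
  rw [HG_HG j' b j hj, hξ]

end K550.Glue
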