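import Groth.Agent.Dix.K550.Geo
import Groth.Agent.Dix.K550.Fibre
import Groth.Agent.Dix.K550.Glue

/-!
# Classes on the blow-up of a regular centre die étale locally around points of the centre
-/

set_option autoImplicit false
universe u
open CategoryTheory CategoryTheory.Limits AlgebraicGeometry Opposite Abelian BlowUp
open scoped Groth.Agent.Etcore.EtInst
open Groth.Agent.Etcore.EtInst Groth.Agent.Etcore.PullCoh Groth.Agent.Etcore.HpullCalc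
  Groth.Agent.Etcore.HC Groth.Agent.Etcore.Kappa228

namespace K550.Centre

open Groth.Agent K550.KumPull K550.Dies Groth.Agent.CohtopA.GmDivGen Groth.Agent.Sga67.KosImm

attribute [local instance] Groth.Agent.S0101.result

theorem isUnit_on_basicOpen {X : Scheme.{u}} (n : ℕ) :
    IsUnit (n : Γ((X.basicOpen (n : Γ(X, ⊤)) : Scheme.{u}), ⊤)) := by
  have h1 := RingedSpace.isUnit_res_basicOpen X.toLocallyRingedSpace.toRingedSpace (n : Γ(X, ⊤))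
  have h2 : IsUnit (n : Γ(X, X.basicOpen (n : Γ(X, ⊤)))) := by
    have h3 : IsUnit ((X.presheaf.map (homOfLE (X.basicOpen_le (n : Γ(X, ⊤)))).op).hom (n : Γ(X, ⊤))) := h1
    rwa [map_natCast] at h3
  have h4 := h2.map (X.basicOpen (n : Γ(X, ⊤))).topIso.inv.hom
  rwa [map_natCast] at h4

theorem natCast_ne_zero {S : Scheme.{u}} {Ω : Type u} [Field Ω] (ξ : Spec (CommRingCat.of Ω) ⟶ S) (n : ℕ)
    (hn : IsUnit (n : Γ(S, ⊤))) : (n : Ω) ≠ 0 := by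
  have h1 := (isUnit_pull n ξ hn).map (Scheme.ΓSpecIso (CommRingCat.of Ω)).hom.hom
  rw [map_natCast] at h1
  exact h1.ne_zero

variable {X Y X' : Scheme.{u}} (f : Y ⟶ X) [IsClosedImmersion f]

/-- **Local triviality around the centre.** -/
theorem dies_centre [IsLocallyNoetherian X] [ELF X] (hf : Mor2.IsRegularClosedImmersion f)
    (hcodim : ∀ y : Y, 1 ≤ ringKrullDim (X.presheaf.stalk (f y))) {b : X' ⟶ X} (hb : IsBlowUp b f.ker)
    (y : Y) (n : ℕ) (hn : (n : X.residueField (f y)) ≠ 0) (η : HH X' (EtCoh.Gm X') 2) (hη : n • η = 0) :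
    Dies b η (f y) := by
  have hprop : IsProper b := K555.BlowGeo.isProper hb
  obtain ⟨Ω, _, _, h, hh⟩ := Etcore.Stalks.exists_geom y
  obtain ⟨c, hc, -⟩ := exists_chart hf y ⊤ trivial
  obtain ⟨r, hr⟩ : ∃ r, c.l.length = r + 1 := ⟨c.l.length - 1, by
    have := K550.Geo.length_pos f hcodim c y hc
    omega⟩
  obtain ⟨L, hL, i, hi, ⟨eL⟩⟩ := K550.Fibre.exists_fibre f hf hb h c (by rw [hh]; exact hc) hr
  let U₀ : X.Opens := X.basicOpen (n : Γ(X, ⊤))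
  have hyU : f y ∈ U₀ := by
    have h1 := X.evaluation_ne_zero_iff_mem_basicOpen (U := ⊤) (f y) trivial (n : Γ(X, ⊤))
    rw [map_natCast] at h1
    exact h1.1 hn
  have hξ : ∀ x, (h ≫ f) x ∈ U₀ := by
    intro x
    have : x = default := Subsingleton.elim _ _
    rw [this, Scheme.Hom.comp_apply, hh]
    exact hyU
  let ξ₀ : Spec (CommRingCat.of Ω) ⟶ U₀ := IsOpenImmersion.lift U₀.ι (h ≫ f) (by
    rw [Scheme.Opens.range_ι]
    rintro _ ⟨x, rfl⟩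
    exact hξ x)
  have hξ₀ : ξ₀ ≫ U₀.ι = h ≫ f := IsOpenImmersion.lift_fac _ _ _
  have hsq : IsPullback (b ⁻¹ᵁ U₀).ι (b ∣_ U₀) b U₀.ι := (isPullback_morphismRestrict b U₀).flip
  let i₀ : CohB1.ProjSpace r Ω ⟶ (b ⁻¹ᵁ U₀ : Scheme.{u}) :=
    hsq.lift i (CohB1.ProjSpace.toSpec r Ω ≫ ξ₀) (by rw [hi.w, Category.assoc, hξ₀])
  have hi₀ : i₀ ≫ (b ⁻¹ᵁ U₀).ι = i := hsq.lift_fst _ _ _
  have hi₁ : i₀ ≫ (b ∣_ U₀) = CohB1.ProjSpace.toSpec r Ω ≫ ξ₀ := hsq.lift_snd _ _ _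
  have hi₂ : IsPullback i₀ (CohB1.ProjSpace.toSpec r Ω) (b ∣_ U₀) ξ₀ := by
    refine IsPullback.of_right ?_ hi₁ hsq
    rw [hi₀, hξ₀]
    exact hi
  have hn₀ : IsUnit (n : Γ((U₀ : Scheme.{u}), ⊤)) := isUnit_on_basicOpen n
  have hn₁ := isUnit_pull n (b ∣_ U₀) hn₀
  have hΩ : (n : Ω) ≠ 0 := natCast_ne_zero ξ₀ n hn₀
  have hL₀ := Groth.Agent.Fdesc.LocGen.isInvertible_pullback (b ⁻¹ᵁ U₀).ι hL
  let eL₀ : (Scheme.Modules.pullback i₀).obj ((Scheme.Modules.pullback (b ⁻¹ᵁ U₀).ι).obj L) ≅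
      Twist.twistProjSpace r Ω 1 :=
    (Scheme.Modules.pullbackComp i₀ (b ⁻¹ᵁ U₀).ι).app L ≪≫
      (Scheme.Modules.pullbackCongr hi₀).app L ≪≫ eL
  obtain ⟨j, hj⟩ := K550.LocTriv.exists_stage (b ∣_ U₀) ξ₀ n hn₁ hi₂ hL₀ eL₀ hΩ
    (HG (b ⁻¹ᵁ U₀).ι 2 η) (by rw [← map_nsmul, hη, map_zero])
  have h1 := (dies_of_hp ξ₀ _ j hj).of_open hsq η
  have h2 : U₀.ι (ξ₀ default) = f y := by
    rw [← Scheme.Hom.comp_apply, hξ₀, Scheme.Hom.comp_apply, hh]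
  rw [h2] at h1
  exact h1

end K550.Centre
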