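import Groth.Agent.Dix.K550.LocTriv
import Groth.Agent.Dix.K282.GmIso
import Groth.Agent.Etcore.Stalks
import Groth.Agent.S19222

/-!
# Classes dying étale locally on the base

`Dies b η x`: the class `η ∈ H²(X', G_m)` dies on `X' ×_X V` for some étale neighbourhood `V` of `x`.
-/

set_option autoImplicit false
universe u
open CategoryTheory CategoryTheory.Limits AlgebraicGeometry Opposite Abelian
open scoped Groth.Agent.Etcore.EtInst
open Groth.Agent.Etcore.EtInst Groth.Agent.Etcore.PullCoh Groth.Agent.Etcore.HpullCalc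
  Groth.Agent.Etcore.HC Groth.Agent.Etcore.Kappa228

set_option linter.dupNamespace false

namespace K550.Dies

open Groth.Agent Groth.Agent.EtpbcB.StrictLoc K550.KumPull Groth.Agent.CurvesA.H1GmPic

attribute [local instance] Groth.Agent.S0101.result

/-- `η` dies on `X' ×_X V` for some étale neighbourhood `V` of `x`. -/
def Dies {X X' : Scheme.{u}} (b : X' ⟶ X) (η : HH X' (EtCoh.Gm X') 2) (x : X) : Prop :=
  ∃ (V V' : Scheme.{u}) (v : V ⟶ X) (v' : V' ⟶ X') (b' : V' ⟶ V), AlgebraicGeometry.Etale v ∧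
    x ∈ Set.range v ∧ IsPullback v' b' b v ∧ HG v' 2 η = 0

theorem isIso_pullGm {U X : Scheme.{u}} (j : U ⟶ X) [AlgebraicGeometry.Etale j] : IsIso (pullGm j) :=
  Groth.Agent.Dix.K282.GmIso.isIso_gmp_etale j

/-- For étale morphisms, `HG` vanishes iff `hp` vanishes. -/
theorem hp_eq_zero {U X : Scheme.{u}} (j : U ⟶ X) [AlgebraicGeometry.Etale j] (n : ℕ)
    (x : HH X (EtCoh.Gm X) n) (h : HG j n x = 0) : hp j _ n x = 0 := by
  have := isIso_pullGm j
  apply (HHmap_bijective (pullGm j) n).1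
  rw [map_zero]
  exact h

variable {X X' : Scheme.{u}} {b : X' ⟶ X}

theorem dies_of_hp {Ω : Type u} [Field Ω] [IsSepClosed Ω] (ξ : Spec (CommRingCat.of Ω) ⟶ X)
    (η : HH X' (EtCoh.Gm X') 2) (j : Idx ξ)
    (h : hp ((EtCoh.bc b).obj ((D ξ).obj j)).hom (EtCoh.Gm X') 2 η = 0) : Dies b η (ξ default) := by
  refine ⟨_, _, ((D ξ).obj j).hom, ((EtCoh.bc b).obj ((D ξ).obj j)).hom, _, ((D ξ).obj j).prop,
    ⟨lft ξ j default, ?_⟩, (EtpbcB.BCCalc.isPullback_pr b ((D ξ).obj j)).flip, ?_⟩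
  · rw [← Scheme.Hom.comp_apply, lft_hom]
  · rw [HG, hpl_apply, h, map_zero]

/-- If `b` is an isomorphism every class dies étale locally. -/
theorem dies_of_isIso [IsIso b] (η : HH X' (EtCoh.Gm X') 2) (x : X) : Dies b η x := by
  obtain ⟨Ω, _, _, ξ, hξ⟩ := Etcore.Stalks.exists_geom x
  have h : IsPullback (pullback.fst b (toBase ξ)) (pullback.snd b (toBase ξ)) b (toBase ξ) :=
    IsPullback.of_hasPullback _ _
  have i1 : HenselianLocalRing (Osh ξ) := henselianLocalRing ξ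
  have i2 : IsSepClosed (IsLocalRing.ResidueField (Osh ξ)) := isSepClosed_residueField ξ
  have i3 : IsFinite (pullback.snd b (toBase ξ)) := inferInstance
  have h1 : Subsingleton (EtCoh.H (pullback b (toBase ξ))
      ((EtCoh.pull (pullback.fst b (toBase ξ))).obj (EtCoh.Gm X')) 2) :=
    @Groth.Agent.S19222.result (Osh ξ) _ i1 i2 (pullback b (toBase ξ)) (pullback.snd b (toBase ξ)) i3 _ 2
      (by norm_num)
  obtain ⟨j, hj⟩ := K550.Stage.exists_stage b ξ h (EtCoh.Gm X') 2 η (h1.elim _ _)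
  rw [← hξ]
  exact dies_of_hp ξ η j hj

/-- Localization on the base. -/
theorem Dies.of_open {U U' : Scheme.{u}} {o : U ⟶ X} [IsOpenImmersion o] {o' : U' ⟶ X'} {b₀ : U' ⟶ U}
    (hsq : IsPullback o' b₀ b o) (η : HH X' (EtCoh.Gm X') 2) (u : U) (h : Dies b₀ (HG o' 2 η) u) :
    Dies b η (o u) := by
  obtain ⟨V, V', v, v', b', hv, ⟨w, hw⟩, hp', h0⟩ := h
  refine ⟨V, V', v ≫ o, v' ≫ o', b', inferInstance, ⟨w, ?_⟩, ?_, ?_⟩
  · rw [Scheme.Hom.comp_apply, hw]
  · exact hp'.paste_horiz hsq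
  · rw [← h0]
    exact (HG_HG v' o' _ rfl 2 η).symm

/-- The local condition needed for gluing on an open `j : W ⟶ X` with `j' : W ⟶ X'` over `X`. -/
theorem Dies.hp_bc {W : Scheme.{u}} {j : W ⟶ X} {j' : W ⟶ X'} (hj : j' ≫ b = j)
    (η : HH X' (EtCoh.Gm X') 2) (x : X) (h : Dies b η x) :
    ∃ V : X.Etale, x ∈ Set.range V.hom ∧
      hp ((EtCoh.bc j).obj V).hom (EtCoh.Gm W) 2 (HG j' 2 η) = 0 := by
  obtain ⟨V, V', v, v', b', hv, hx, hp', h0⟩ := h
  let E : X.Etale := Scheme.Etale.mk v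
  refine ⟨E, hx, ?_⟩
  have i1 : AlgebraicGeometry.Etale ((EtCoh.bc j).obj E).hom := ((EtCoh.bc j).obj E).prop
  refine hp_eq_zero ((EtCoh.bc j).obj E).hom 2 _ ?_
  let t : ((EtCoh.bc j).obj E).left ⟶ V' := hp'.lift (((EtCoh.bc j).obj E).hom ≫ j')
    (EtpbcB.BCCalc.pr j E) (by
      rw [Category.assoc, hj]
      exact (EtpbcB.BCCalc.pr_hom j E).symm)
  have ht : t ≫ v' = ((EtCoh.bc j).obj E).hom ≫ j' := hp'.lift_fst _ _ _
  rw [HG_HG _ j' _ rfl, ← HG_HG t v' _ ht, h0, map_zero]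

end K550.Dies
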