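import Groth.Agent.Etcore.Kappa228
import Groth.Agent.Sga5.H848.PullMu
import Groth.Agent.Topos.H571.GmPull
import Groth.Agent.S0108

/-!
# Naturality of the Kummer connecting map

* `dl hX i : H^i(X, G_m) → H^{i+1}(X, μ_n)` (with the short instances `HH`),
* `HM_dl`: it is natural for arbitrary morphisms `f : X ⟶ Y`,
* `HGmPull_eq_HG`: `EtLim.HGmPull` is `Etcore.Kappa228.HG`.
-/

set_option autoImplicit false
universe u
open CategoryTheory CategoryTheory.Limits AlgebraicGeometry Opposite Abelian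
open scoped Groth.Agent.Etcore.EtInst
open Groth.Agent.Etcore.EtInst Groth.Agent.Etcore.PullCoh Groth.Agent.Etcore.HpullCalc
  Groth.Agent.Etcore.HC Groth.Agent.Etcore.Kappa228

namespace K550.KumPull

open Groth.Agent

attribute [local instance] Groth.Agent.S0101.result

variable {X Y : Scheme.{u}} (n : ℕ)

/-- The `n`-th power map is epi when `n` is invertible. -/
theorem epi_pow (hn : IsUnit (n : Γ(X, ⊤))) : Epi (EtCoh.powMap X n) := Groth.Agent.S0108.result X n hn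

theorem isUnit_pull (f : X ⟶ Y) (hn : IsUnit (n : Γ(Y, ⊤))) : IsUnit (n : Γ(X, ⊤)) := by
  have := hn.map f.appTop.hom
  rwa [map_natCast] at this

/-- The connecting map of the Kummer sequence. -/
noncomputable def dl (hX : Epi (EtCoh.powMap X n)) (i : ℕ) :
    HH X (EtCoh.Gm X) i →+ HH X (EtCoh.mu X n) (i + 1) :=
  Ext.postcomp (Sga4B.KummerH1.kummer_shortExact X n hX).extClass (EtCoh.const X ℤ) (rfl : i + 1 = i + 1)

theorem dl_apply (hX : Epi (EtCoh.powMap X n)) (i : ℕ) (x : HH X (EtCoh.Gm X) i) :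
    dl n hX i x = Ext.comp x (Sga4B.KummerH1.kummer_shortExact X n hX).extClass rfl := rfl

/-- A class killed by the connecting map is divisible by `n`. -/
theorem exists_nsmul_of_dl_eq_zero (hX : Epi (EtCoh.powMap X n)) (i : ℕ) (x : HH X (EtCoh.Gm X) i)
    (hx : dl n hX i x = 0) : ∃ y : HH X (EtCoh.Gm X) i, n • y = x :=
  Sga4B.KummerH1.exists_of_conn_eq_zero _ _ n _ (Sga4B.KummerH1.kummer_shortExact X n hX) i x hx

theorem dl_nsmul (hX : Epi (EtCoh.powMap X n)) (i : ℕ) (x : HH X (EtCoh.Gm X) i) :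
    dl n hX i (n • x) = 0 :=
  Sga4B.KummerH1.conn_nsmul _ _ n _ (Sga4B.KummerH1.kummer_shortExact X n hX) i x

/-- The image of the connecting map dies in `H^{i+1}(G_m)`. -/
theorem ι_dl (hX : Epi (EtCoh.powMap X n)) (i : ℕ) (x : HH X (EtCoh.Gm X) i) :
    HHmap (EtCoh.muι X n) (i + 1) (dl n hX i x) = 0 := by
  have h := ShortComplex.ShortExact.extClass_comp (Sga4B.KummerH1.kummer_shortExact X n hX)
  rw [dl_apply, HHmap_apply, Ext.comp_assoc_of_third_deg_zero]
  refine (congrArg (fun e => Ext.comp x e rfl) h).trans ?_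
  exact Ext.comp_zero _ _ _ _ _

/-- A class of `G_m` killed by `n` comes from `μ_n`. -/
theorem exists_ι_eq (hX : Epi (EtCoh.powMap X n)) (i : ℕ) (x : HH X (EtCoh.Gm X) i)
    (hx : n • x = 0) : ∃ y : HH X (EtCoh.mu X n) i, HHmap (EtCoh.muι X n) i y = x := by
  obtain ⟨y, hy⟩ := Ext.covariant_sequence_exact₂ (EtCoh.const X ℤ)
    (Sga4B.KummerH1.kummer_shortExact X n hX) x ((Sga4B.KummerH1.comp_nsmul_id n i x).trans hx)
  exact ⟨y, hy⟩

/-- **Naturality of the Kummer connecting map.** -/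
theorem HM_dl (f : X ⟶ Y) (hX : Epi (EtCoh.powMap X n)) (hY : Epi (EtCoh.powMap Y n)) (i : ℕ)
    (x : HH Y (EtCoh.Gm Y) i) : HM n f (i + 1) (dl n hY i x) = dl n hX i (HG f i x) := by
  let φ : (KS n Y).map (EtCoh.pull f) ⟶ KS n X :=
    { τ₁ := pullMu n f
      τ₂ := pullGm f
      τ₃ := pullGm f
      comm₁₂ := pullMu_ι n f
      comm₂₃ := by
        change pullGm f ≫ (n • 𝟙 (EtCoh.Gm X)) = (EtCoh.pull f).map (n • 𝟙 (EtCoh.Gm Y)) ≫ pullGm f
        rw [Functor.map_nsmul, Preadditive.comp_nsmul, Preadditive.nsmul_comp,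
          CategoryTheory.Functor.map_id, Category.comp_id, Category.id_comp] }
  exact hpl_extClass f (Sga4B.KummerH1.kummer_shortExact Y n hY)
    (Sga4B.KummerH1.kummer_shortExact X n hX) φ (rfl : i + 1 = i + 1) x

theorem gmp_eq_pullGm (f : X ⟶ Y) : Groth.Agent.Etcore.GmFun.gmp f = pullGm f := rfl

/-- `EtLim.HGmPull` is `HG`. -/
theorem HGmPull_eq_HG (f : X ⟶ Y) [PreservesFiniteLimits (EtCoh.pull f)] (i : ℕ)
    (x : HH Y (EtCoh.Gm Y) i) :
    @Eq (HH X (EtCoh.Gm X) i) (EtLim.HGmPull f i x) (HG f i x) :=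
  (Topos.H571.GmPull.HGmPull_eq f i x).trans (by rw [gmp_eq_pullGm]; rfl)

/-- `H^i(X, f⁻¹ μ_n) ≃ H^i(X, μ_n)`. -/
theorem bijective_pullMu (f : X ⟶ Y) (hn : IsUnit (n : Γ(Y, ⊤))) (i : ℕ) :
    Function.Bijective (HHmap (pullMu n f) i) := by
  have := Sga5.H848.PullMu.isIso_pullMu f n hn
  exact HHmap_bijective (pullMu n f) i

/-- If a class of `μ_n` pulls back to zero (in terms of `HM`), it does so in terms of `hp`. -/
theorem hp_eq_zero_of_HM (f : X ⟶ Y) (hn : IsUnit (n : Γ(Y, ⊤))) (i : ℕ) (x : HH Y (EtCoh.mu Y n) i)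
    (h : HM n f i x = 0) : hp f _ i x = 0 := by
  apply (bijective_pullMu n f hn i).1
  rw [map_zero]
  exact h

/-- If a class of `μ_n` pulls back to zero, so does its image in `G_m`. -/
theorem hp_ι_eq_zero (f : X ⟶ Y) (i : ℕ) (x : HH Y (EtCoh.mu Y n) i) (h : hp f _ i x = 0) :
    hp f _ i (HHmap (EtCoh.muι Y n) i x) = 0 := by
  rw [hp_map, h, map_zero]

end K550.KumPull
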