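import Groth.Agent.CurvesA.H1GmPicSurj
import Groth.Agent.S10960

/-!
# `O(m)` on projective space over a field is `n`-divisible in `H¹(P^r, G_m)` only if `n ∣ m`
-/

set_option autoImplicit false
universe u
open CategoryTheory CategoryTheory.Limits AlgebraicGeometry Opposite

namespace K550.PicDiv

open Groth.Agent Groth.Agent.CurvesA.H1GmPic Groth.Agent.Grpsch

variable (Ω : Type u) [Field Ω] (r : ℕ)

/-- The class of `O(d)`. -/
noncomputable def tw (d : ℤ) : PicGrp.Pic (CohB1.ProjSpace r Ω) :=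
  PicGrp.mk (Twist.twistProjSpace r Ω d) (Groth.Agent.S10962.isInvertible_twist Ω r d)

theorem tw_mul (a b : ℤ) : tw Ω r a * tw Ω r b = tw Ω r (a + b) := by
  rw [tw, tw, PicGrp.mk_mul_mk]
  obtain ⟨e⟩ := Groth.Agent.S10962.nonempty_tensor Ω r a b
  exact PicGrp.mk_congr e

theorem tw_zero : tw Ω r 0 = 1 := by
  obtain ⟨e⟩ := Groth.Agent.S10962.nonempty_twist_zero Ω r
  exact PicGrp.mk_congr e

theorem tw_pow (a : ℤ) (n : ℕ) : tw Ω r a ^ n = tw Ω r (n * a) := by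
  induction n with
  | zero => rw [pow_zero, Nat.cast_zero, zero_mul, tw_zero]
  | succ n ih =>
    rw [pow_succ, ih, tw_mul]
    congr 1
    push_cast
    ring

theorem tw_injective (hr : 1 ≤ r) : Function.Injective (tw Ω r) := fun _ _ h =>
  Groth.Agent.S10960.eq_of_iso Ω r hr ((PicGrp.mk_eq_iff _ _).1 h).some

/-- `m • O(1)` is divisible by `n` only if `n ∣ m`. -/
theorem dvd_of_nsmul_eq (hr : 1 ≤ r) {L : (CohB1.ProjSpace r Ω).Modules} (hL : PicF.IsInvertible L)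
    (e : L ≅ Twist.twistProjSpace r Ω 1) (n m : ℕ)
    (y : EtCoh.H (CohB1.ProjSpace r Ω) (EtCoh.Gm _) 1) (h : n • y = m • clsL L hL) : n ∣ m := by
  obtain ⟨M, hM, rfl⟩ := exists_clsL_eq y
  obtain ⟨d, ⟨e'⟩⟩ := Groth.Agent.S1697.result Ω r M hM
  have h1 : PicGrp.mk M hM = tw Ω r d := PicGrp.mk_congr e'
  have h2 : PicGrp.mk L hL = tw Ω r 1 := PicGrp.mk_congr e
  rw [← picEquiv_mk, ← picEquiv_mk, ← map_nsmul (picEquiv _), ← map_nsmul (picEquiv _)] at h
  have h3 := (picEquiv _).injective h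
  have h4 : PicGrp.mk M hM ^ n = PicGrp.mk L hL ^ m := h3
  rw [h1, h2, tw_pow, tw_pow] at h4
  have h5 := tw_injective Ω r hr h4
  rw [mul_one] at h5
  exact Int.natCast_dvd_natCast.1 ⟨d, h5.symm⟩

end K550.PicDiv
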