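import Groth.Agent.Etcore.LimEtH
import Groth.Agent.Etcore.StalkLimN
import Groth.Agent.Etcore.HC
import Mathlib.GroupTheory.SpecificGroups.Cyclic

/-!
# A class dying on the strict localization dies on an étale neighbourhood
-/

set_option autoImplicit false
set_option backward.isDefEq.respectTransparency.types false
universe u
open CategoryTheory CategoryTheory.Limits AlgebraicGeometry Opposite Abelian
open scoped Groth.Agent.Etcore.EtInst
open Groth.Agent.Etcore.EtInst Groth.Agent.Etcore.PullCoh Groth.Agent.Etcore.HpullCalc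
  Groth.Agent.Etcore.HC

namespace K550.Stage

open Groth.Agent Groth.Agent.EtpbcB.StrictLoc

attribute [local instance] Groth.Agent.S0101.result

variable {X Y : Scheme.{u}} (f : X ⟶ Y) [QuasiCompact f] [QuasiSeparated f] {Ω : Type u} [Field Ω]
  [IsSepClosed Ω] (ξ : Spec (CommRingCat.of Ω) ⟶ Y) {XA : Scheme.{u}} {fA : XA ⟶ Spec (Osh ξ)} {a : XA ⟶ X}
  (h : IsPullback a fA f (toBase ξ))

include h in
/-- If `z` pulls back to zero on `X ×_Y Spec O^sh`, it dies on `X ×_Y V` for an étale neighbourhood `V`. -/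
theorem exists_stage (G : EtCoh.Ab X) (n : ℕ) (z : HH X G n) (hz : hp a G n z = 0) :
    ∃ j : Idx ξ, hp ((EtCoh.bc f).obj ((D ξ).obj j)).hom G n z = 0 := by
  obtain ⟨j₀⟩ : Nonempty (Idx ξ) := IsCofiltered.nonempty
  let t : ∀ j : Idx ξ, (DX ξ f).obj j ⟶ X := fun j => ((EtCoh.bc f).obj ((D ξ).obj j)).hom
  have ht : ∀ {x y : Idx ξ} (g : x ⟶ y), (DX ξ f).map g ≫ t y = t x := fun {x y} g =>
    EtpbcB.BCCalc.left_hom ((EtCoh.bc f).map ((D ξ).map g))
  have hq : ∀ j, (coneX ξ f h).π.app j ≫ t j = a := fun j => legX_hom ξ f h j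
  have i1 : ∀ j, CompactSpace ((DX ξ f).obj j) := fun j => inferInstance
  have i2 : ∀ j, QuasiSeparatedSpace ((DX ξ f).obj j) := fun j => inferInstance
  have i3 : ∀ {i j : Idx ξ} (g : i ⟶ j), IsAffineHom ((DX ξ f).map g) := fun g => inferInstance
  have h0 : hpVia ((coneX ξ f h).π.app j₀) (t j₀) a (hq j₀) G n (hp (t j₀) G n z) = 0 := by
    rw [hpVia_hp]
    exact hz
  obtain ⟨k, g, hk⟩ := Groth.Agent.Etcore.LimEtH.inj_hpVia (DX ξ f) (coneX ξ f h) (isLimitConeX ξ f h)
    t ht a hq G n j₀ (hp (t j₀) G n z) h0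
  refine ⟨k, ?_⟩
  have h1 := hp_eq_th ((DX ξ f).map g) (t j₀) (t k) (ht g) G n z
  rw [hk, map_zero] at h1
  exact h1.symm

/-- In a group isomorphic to `ℤ/n`, an element whose multiples vanish only at multiples of `n` generates. -/
theorem exists_nsmul {G : Type*} [AddCommGroup G] {n : ℕ} (hn : n ≠ 0) (e : G ≃+ ZMod n) (g : G)
    (hg : ∀ m : ℕ, m • g = 0 → n ∣ m) (x : G) : ∃ k : ℕ, x = k • g := by
  have : NeZero n := ⟨hn⟩
  have : Finite G := e.symm.toEquiv.finite_iff.1 inferInstance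
  have hc : Nat.card G = n := by rw [Nat.card_congr e.toEquiv, Nat.card_zmod]
  have ho : addOrderOf g = n := Nat.dvd_antisymm (hc ▸ addOrderOf_dvd_natCard g)
    (hg _ (addOrderOf_nsmul_eq_zero g))
  have h1 : AddSubgroup.zmultiples g = ⊤ := by
    apply AddSubgroup.eq_top_of_card_eq
    rw [Nat.card_zmultiples, ho, hc]
  have h2 : x ∈ AddSubgroup.zmultiples g := h1 ▸ AddSubgroup.mem_top x
  have h3 : x ∈ AddSubmonoid.multiples g := (mem_multiples_iff_mem_zmultiples).2 h2
  obtain ⟨k, hk⟩ := (AddSubmonoid.mem_multiples_iff _ _).1 h3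
  exact ⟨k, hk.symm⟩

end K550.Stage
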