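import Groth.Agent.Dix.K550.StkMu
import Groth.Agent.Dix.K550.Stage
import Groth.Agent.Dix.K550.PicDiv
import Groth.Agent.Dix.K281.ClsPull

/-!
# Local triviality of torsion Brauer classes on proper morphisms with fibre `P^r`

`f : X ⟶ Y` proper, `n` invertible on `X`, `ξ` a geometric point of `Y` with fibre `P^r` on which a line bundle
`L` on `X` restricts to `O(1)`: every class of `H²(X, G_m)` killed by `n` dies on `X ×_Y V` for an étale
neighbourhood `V` of `ξ`.
-/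

set_option autoImplicit false
universe u
open CategoryTheory CategoryTheory.Limits AlgebraicGeometry Opposite Abelian
open scoped Groth.Agent.Etcore.EtInst
open Groth.Agent.Etcore.EtInst Groth.Agent.Etcore.PullCoh Groth.Agent.Etcore.HpullCalc
  Groth.Agent.Etcore.HC Groth.Agent.Etcore.Kappa228

namespace K550.LocTriv

open Groth.Agent Groth.Agent.EtpbcB.StrictLoc K550.KumPull Groth.Agent.CurvesA.H1GmPic

attribute [local instance] Groth.Agent.S0101.result

/-- `HG` on classes of invertible modules. -/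
theorem HG_clsL {X Y : Scheme.{u}} (f : X ⟶ Y) (L : Y.Modules) (hL : PicF.IsInvertible L) :
    @Eq (HH X (EtCoh.Gm X) 1) (HG f 1 (clsL L hL)) (clsL ((Scheme.Modules.pullback f).obj L)
      (Groth.Agent.Fdesc.LocGen.isInvertible_pullback f hL)) :=
  (HGmPull_eq_HG f 1 (clsL L hL)).symm.trans (K281.ClsPull.HGmPull_clsL f L hL _)

variable {X Y : Scheme.{u}} (f : X ⟶ Y) [IsProper f] {Ω : Type u} [Field Ω] [IsSepClosed Ω]
  (ξ : Spec (CommRingCat.of Ω) ⟶ Y) (n : ℕ) (hn : IsUnit (n : Γ(X, ⊤)))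
  {r : ℕ} {i : CohB1.ProjSpace r Ω ⟶ X} (hi : IsPullback i (CohB1.ProjSpace.toSpec r Ω) f ξ)

include hi in
/-- The order of the Kummer class of `L` on the strict localization is divisible by `n`. -/
theorem dvd_of_nsmul_eq_zero (hr : 1 ≤ r) {XA : Scheme.{u}} {fA : XA ⟶ Spec (Osh ξ)} {a : XA ⟶ X}
    (h : IsPullback a fA f (toBase ξ)) (hXA : Epi (EtCoh.powMap XA n))
    {L : X.Modules} (hL : PicF.IsInvertible L)
    (eL : (Scheme.Modules.pullback i).obj L ≅ Twist.twistProjSpace r Ω 1) (m : ℕ)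
    (hm : m • dl n hXA 1 (HG a 1 (clsL L hL)) = 0) : n ∣ m := by
  rw [← map_nsmul] at hm
  obtain ⟨y, hy⟩ := exists_nsmul_of_dl_eq_zero n hXA 1 _ hm
  let i' : CohB1.ProjSpace r Ω ⟶ XA := h.lift i (CohB1.ProjSpace.toSpec r Ω ≫ pt ξ)
    (by rw [hi.w, Category.assoc, pt_toBase])
  have hi' : i' ≫ a = i := h.lift_fst _ _ _
  have h1 := congrArg (HG i' 1) hy
  rw [map_nsmul, map_nsmul, HG_HG i' a i hi', HG_clsL] at h1
  exact K550.PicDiv.dvd_of_nsmul_eq Ω r hr _ eL n m (HG i' 1 y) h1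

include hn hi in
/-- **Local triviality.** -/
theorem exists_stage {L : X.Modules} (hL : PicF.IsInvertible L)
    (eL : (Scheme.Modules.pullback i).obj L ≅ Twist.twistProjSpace r Ω 1) (hΩ : (n : Ω) ≠ 0)
    (η : HH X (EtCoh.Gm X) 2) (hη : n • η = 0) :
    ∃ j : Idx ξ, hp ((EtCoh.bc f).obj ((D ξ).obj j)).hom (EtCoh.Gm X) 2 η = 0 := by
  have hX := epi_pow n hn
  let a := pullback.fst f (toBase ξ)
  have h : IsPullback a (pullback.snd f (toBase ξ)) f (toBase ξ) := IsPullback.of_hasPullback _ _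
  have hnA := isUnit_pull n a hn
  have hXA := epi_pow n hnA
  let e : CohB1.ProjSpace r Ω ≅ pullback f ξ := hi.isoPullback
  obtain ⟨x, hx⟩ := exists_ι_eq n hX 2 η hη
  have key : ∃ k : ℕ, HM n a 2 x = k • HM n a 2 (dl n hX 1 (clsL L hL)) := by
    rcases Nat.eq_zero_or_pos r with hr | hr
    · subst hr
      have := K550.StkMu.subsingleton_zero f ξ h n hn hΩ e 2 (by norm_num)
      exact ⟨0, this.elim _ _⟩
    · obtain ⟨E⟩ := K550.StkMu.nonempty_zmod f ξ h n hn hΩ r hr e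
      refine K550.Stage.exists_nsmul (G := HH _ (EtCoh.mu _ n) 2) (by rintro rfl; simp at hΩ) E _
        (fun m hm => ?_) _
      rw [HM_dl n a hXA hX] at hm
      exact dvd_of_nsmul_eq_zero f ξ n hi hr h hXA hL eL m hm
  obtain ⟨k, hk⟩ := key
  have h1 : HM n a 2 (x - k • dl n hX 1 (clsL L hL)) = 0 := by
    rw [map_sub, map_nsmul, hk, sub_self]
  obtain ⟨j, hj⟩ := K550.Stage.exists_stage f ξ h _ 2 _ (hp_eq_zero_of_HM n a hn 2 _ h1)
  refine ⟨j, ?_⟩
  have h2 := hp_ι_eq_zero (Y := X) n ((EtCoh.bc f).obj ((D ξ).obj j)).hom 2 _ hj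
  have h3 : HHmap (EtCoh.muι X n) 2 (x - k • dl n hX 1 (clsL L hL)) = η := by
    rw [map_sub, map_nsmul, ι_dl, nsmul_zero, sub_zero, hx]
  rw [h3] at h2
  exact h2

end K550.LocTriv
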