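import Groth.Agent.Dix.K550.KumPull
import Groth.Agent.EtpbcB.PBCStalk
import Groth.Agent.Etcore.StalkLimN
import Groth.Agent.Sga5.ProjCoh
import Groth.Agent.Etcore.MuGlobal

/-!
# Cohomology of `μ_n` on the strict localization of a proper morphism

For `f : X ⟶ Y` proper, `ξ : Spec Ω ⟶ Y` a geometric point and `XA = X ×_Y Spec O^sh`: the group
`H^i(XA, μ_n)` is isomorphic to `H^i(P, ℤ/n)`, `P` the geometric fibre.
-/

set_option autoImplicit false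
universe u
open CategoryTheory CategoryTheory.Limits AlgebraicGeometry Opposite Abelian
open scoped Groth.Agent.Etcore.EtInst
open Groth.Agent.Etcore.EtInst Groth.Agent.Etcore.PullCoh Groth.Agent.Etcore.HpullCalc
  Groth.Agent.Etcore.HC Groth.Agent.Etcore.Kappa228

namespace K550.StkMu

open Groth.Agent Groth.Agent.EtpbcB.StrictLoc

attribute [local instance] Groth.Agent.S0101.result

variable {X Y : Scheme.{u}} (f : X ⟶ Y) [IsProper f] {Ω : Type u} [Field Ω] [IsSepClosed Ω]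
  (ξ : Spec (CommRingCat.of Ω) ⟶ Y) {XA : Scheme.{u}} {fA : XA ⟶ Spec (Osh ξ)} {a : XA ⟶ X}
  (h : IsPullback a fA f (toBase ξ))

include h in
/-- Proper base change: strict localization versus geometric fibre (as abstract groups). -/
theorem nonempty_equiv (F : EtCoh.Ab X) (hF : EtCoh.IsTorsion F) (q : ℕ) :
    Nonempty (EtCoh.H XA ((EtCoh.pull a).obj F) q ≃+
      EtCoh.H (pullback f ξ) ((EtCoh.pull (pullback.fst f ξ)).obj F) q) := by
  obtain ⟨e1⟩ := Groth.Agent.Etcore.StalkLimN.nonempty_stalk_Rpush_iso f ξ h F q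
  obtain ⟨e2⟩ := Groth.Agent.EtpbcB.PBCStalk.stalk_Rpush f ξ F hF q
  exact ⟨e1.addCommGroupIsoToAddEquiv.symm.trans e2⟩

theorem nonempty_mu_const {S P : Scheme.{u}} (e : P ≅ S) (s : S ⟶ Spec (CommRingCat.of Ω)) (n : ℕ)
    (hn : (n : Ω) ≠ 0) (i : ℕ) :
    Nonempty (EtCoh.H S (EtCoh.mu S n) i ≃+ EtCoh.H P (EtCoh.const P (ZMod n)) i) := by
  obtain ⟨e1⟩ := Groth.Agent.Sga5.ProjCoh.nonempty_const_mu Ω s n hn
  obtain ⟨e2⟩ := Groth.Agent.Etrest.HConstIso.nonempty_HConst e (ZMod n) i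
  exact ⟨(Groth.Agent.Sga4B.HTools.HCongr e1.symm i).trans e2⟩

include h in
/-- `H^i(XA, μ_n)` is `H^i` of the geometric fibre with coefficients `ℤ/n`. -/
theorem nonempty_mu_equiv (n : ℕ) (hn : IsUnit (n : Γ(X, ⊤))) (hΩ : (n : Ω) ≠ 0) {P : Scheme.{u}}
    (e : P ≅ pullback f ξ) (i : ℕ) :
    Nonempty (EtCoh.H XA (EtCoh.mu XA n) i ≃+ EtCoh.H P (EtCoh.const P (ZMod n)) i) := by
  have hn0 : 1 ≤ n := Nat.one_le_iff_ne_zero.2 (by rintro rfl; simp at hΩ)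
  obtain ⟨e1⟩ := nonempty_equiv f ξ h (EtCoh.mu X n)
    (Groth.Agent.Etcore.MuGlobal.isTorsion_mu X n hn0) i
  have i1 := Sga5.H848.PullMu.isIso_pullMu a n hn
  have i2 := Sga5.H848.PullMu.isIso_pullMu (pullback.fst f ξ) n hn
  have e2 := Groth.Agent.Sga4B.HTools.HCongr (asIso (pullMu n a)) i
  have e3 := Groth.Agent.Sga4B.HTools.HCongr (asIso (pullMu n (pullback.fst f ξ))) i
  obtain ⟨e4⟩ := nonempty_mu_const e (pullback.snd f ξ) n hΩ i
  exact ⟨e2.symm.trans (e1.trans (e3.trans e4))⟩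

include h in
/-- Fibre a point: no cohomology in positive degree. -/
theorem subsingleton_zero (n : ℕ) (hn : IsUnit (n : Γ(X, ⊤))) (hΩ : (n : Ω) ≠ 0)
    (e : CohB1.ProjSpace 0 Ω ≅ pullback f ξ) (i : ℕ) (hi : 0 < i) :
    Subsingleton (EtCoh.H XA (EtCoh.mu XA n) i) := by
  obtain ⟨e1⟩ := nonempty_mu_equiv f ξ h n hn hΩ e i
  have := Groth.Agent.Sga5.ProjCoh.odd_or_large Ω n hΩ 0 i (Or.inr (by omega))
  exact e1.toEquiv.subsingleton

include h in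
/-- Fibre `P^r`, `r ≥ 1`: `H²(XA, μ_n) ≃ ℤ/n`. -/
theorem nonempty_zmod (n : ℕ) (hn : IsUnit (n : Γ(X, ⊤))) (hΩ : (n : Ω) ≠ 0) (r : ℕ) (hr : 1 ≤ r)
    (e : CohB1.ProjSpace r Ω ≅ pullback f ξ) :
    Nonempty (EtCoh.H XA (EtCoh.mu XA n) 2 ≃+ ZMod n) := by
  obtain ⟨e1⟩ := nonempty_mu_equiv f ξ h n hn hΩ e 2
  obtain ⟨e2⟩ := Groth.Agent.Sga5.ProjCoh.even Ω n hΩ r 1 hr
  exact ⟨e1.trans e2⟩

end K550.StkMu
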